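import Groth.Agent.LieSLib.Epi
import Groth.Prelude.Def_LieS
import Mathlib

/-! Addition of tangent vectors of monoid schemes. -/

set_option autoImplicit false
set_option backward.isDefEq.respectTransparency false
universe u

open CategoryTheory CategoryTheory.Limits AlgebraicGeometry MonObj MonoidalCategory CartesianMonoidalCategory

noncomputable section

namespace Groth.Agent.LieSLib

variable {S : Scheme.{u}} {B : Type u} [CommRing B] {f : Spec (CommRingCat.of B) ⟶ S}

/-- The square zero extension by two parameters. -/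
abbrev D (B : Type u) [CommRing B] : Type u := TrivSqZeroExt B (B × B)

variable (B f) in
/-- The thickening of `Spec B` with two infinitesimal parameters. -/
def dptD : Over S := Over.mk (Spec.map (CommRingCat.ofHom (algebraMap B (D B))) ≫ f)

/-- The map `ε ↦ (a, b)`. -/
def pHom (a b : B) : DualNumber B →ₐ[B] D B :=
  TrivSqZeroExt.map ((a • LinearMap.id : B →ₗ[B] B).prod (b • LinearMap.id))

/-- The map `(x, y) ↦ (a x + b y) ε`. -/
def dHom (a b : B) : D B →ₐ[B] DualNumber B :=
  TrivSqZeroExt.map ((a • LinearMap.id : B →ₗ[B] B).coprod (b • LinearMap.id))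

variable (f) in
/-- Spec of `pHom`. -/
def pD (a b : B) : dptD B f ⟶ LieS.dpt B f :=
  Over.homMk (Spec.map (CommRingCat.ofHom (pHom a b).toRingHom)) (by
    change Spec.map _ ≫ Spec.map _ ≫ f = Spec.map _ ≫ f
    rw [← Category.assoc, LieS.specMap_comp]
    congr 3
    exact RingHom.ext (pHom a b).commutes)

variable (f) in
/-- Spec of `dHom`. -/
def dD (a b : B) : LieS.dpt B f ⟶ dptD B f :=
  Over.homMk (Spec.map (CommRingCat.ofHom (dHom a b).toRingHom)) (by
    change Spec.map _ ≫ Spec.map _ ≫ f = Spec.map _ ≫ f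
    rw [← Category.assoc, LieS.specMap_comp]
    congr 3
    exact RingHom.ext (dHom a b).commutes)

theorem scaleHom_eq (b : B) : LieS.scaleHom b = (TrivSqZeroExt.map (b • LinearMap.id : B →ₗ[B] B)).toRingHom :=
  RingHom.ext fun x => TrivSqZeroExt.ext (by simp [LieS.scaleHom, LieS.dualHom, TrivSqZeroExt.algebraMap_eq_inl'])
    (by simp [LieS.scaleHom, LieS.dualHom, TrivSqZeroExt.algebraMap_eq_inl', mul_comm])

theorem dD_pD (a b c d : B) : dD f a b ≫ pD f c d = LieS.scale B f (a * c + b * d) := by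
  refine Over.OverMorphism.ext ?_
  show Spec.map _ ≫ Spec.map _ = Spec.map (CommRingCat.ofHom (LieS.scaleHom (a * c + b * d)))
  rw [LieS.specMap_comp, scaleHom_eq]
  congr 2
  refine RingHom.ext fun x => TrivSqZeroExt.ext (by simp [pHom, dHom]) ?_
  simp [pHom, dHom]
  ring

theorem scale_one : LieS.scale B f 1 = 𝟙 _ := by
  refine Over.OverMorphism.ext ?_
  show Spec.map (CommRingCat.ofHom (LieS.scaleHom (1 : B))) = 𝟙 _
  rw [scaleHom_eq]
  refine Eq.trans ?_ (Spec.map_id _)
  congr 1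
  refine CommRingCat.hom_ext (RingHom.ext fun x => ?_)
  exact TrivSqZeroExt.ext (by simp) (by simp)

theorem scale_zero : LieS.scale B f 0 = LieS.proj B f ≫ LieS.zeroSec B f := by
  refine Over.OverMorphism.ext ?_
  show Spec.map (CommRingCat.ofHom (LieS.scaleHom (0 : B))) = Spec.map _ ≫ Spec.map _
  rw [scaleHom_eq, LieS.specMap_comp]
  congr 2
  exact RingHom.ext fun x => TrivSqZeroExt.ext (by simp [TrivSqZeroExt.algebraMap_eq_inl']) (by simp [TrivSqZeroExt.algebraMap_eq_inl'])

theorem hom_ext_axes {X : Over S} {g h : dptD B f ⟶ X} (h₁ : dD f 1 0 ≫ g = dD f 1 0 ≫ h)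
    (h₂ : dD f 0 1 ≫ g = dD f 0 1 ≫ h) : g = h := by
  let φ : CommRingCat.of (D B) ⟶ CommRingCat.of (DualNumber B × DualNumber B) :=
    CommRingCat.ofHom ((dHom (1 : B) 0).toRingHom.prod (dHom (0 : B) 1).toRingHom)
  have hinj : Function.Injective φ.hom := by
    refine (injective_iff_map_eq_zero φ.hom).mpr fun x hx => ?_
    have e1 : dHom (1 : B) 0 x = 0 := congrArg Prod.fst hx
    have e2 : dHom (0 : B) 1 x = 0 := congrArg Prod.snd hx
    refine TrivSqZeroExt.ext ?_ (Prod.ext ?_ ?_)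
    · simpa [dHom] using congrArg TrivSqZeroExt.fst e1
    · simpa [dHom] using congrArg TrivSqZeroExt.snd e1
    · simpa [dHom] using congrArg TrivSqZeroExt.snd e2
  have hsurj : Function.Surjective (PrimeSpectrum.comap φ.hom) := fun q => by
    let i := (TrivSqZeroExt.inlHom B (B × B))
    refine ⟨PrimeSpectrum.comap (RingHom.fst (DualNumber B) (DualNumber B))
      (PrimeSpectrum.comap (TrivSqZeroExt.fstHom B B B).toRingHom (PrimeSpectrum.comap i q)), ?_⟩
    refine PrimeSpectrum.ext (Ideal.ext fun x => ?_)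
    have hn : x - i x.fst ∈ q.asIdeal := by
      refine q.isPrime.mem_of_pow_mem 2 ?_
      have : (x - i x.fst) ^ 2 = 0 := by
        refine TrivSqZeroExt.ext (by simp [pow_two, i]) (by simp [pow_two, i])
      rw [this]; exact q.asIdeal.zero_mem
    show i (dHom (1 : B) 0 x).fst ∈ q.asIdeal ↔ x ∈ q.asIdeal
    rw [show (dHom (1 : B) 0 x).fst = x.fst by simp [dHom]]
    exact ⟨fun hi => by simpa using q.asIdeal.add_mem hn hi, fun hx => by simpa using q.asIdeal.sub_mem hx hn⟩
  haveI := epi_specMap φ hinj hsurj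
  refine Over.OverMorphism.ext ((cancel_epi (Spec.map φ)).1 ?_)
  haveI : IsIso (coprodSpec (DualNumber B) (DualNumber B)) := inferInstance
  refine (cancel_epi (coprodSpec (DualNumber B) (DualNumber B))).1 (coprod.hom_ext ?_ ?_)
  · rw [coprodSpec_inl_assoc, coprodSpec_inl_assoc, ← Spec.map_comp_assoc, ← Spec.map_comp_assoc]
    have e : φ ≫ CommRingCat.ofHom (RingHom.fst (DualNumber B) (DualNumber B)) = CommRingCat.ofHom (dHom (1 : B) 0).toRingHom := rfl
    rw [e]
    exact congrArg CommaMorphism.left h₁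
  · rw [coprodSpec_inr_assoc, coprodSpec_inr_assoc, ← Spec.map_comp_assoc, ← Spec.map_comp_assoc]
    have e : φ ≫ CommRingCat.ofHom (RingHom.snd (DualNumber B) (DualNumber B)) = CommRingCat.ofHom (dHom (0 : B) 1).toRingHom := rfl
    rw [e]
    exact congrArg CommaMorphism.left h₂

variable {X : Over S} [MonObj X]

theorem scale_mul (v : LieS.dpt B f ⟶ X) (hv : LieS.zeroSec B f ≫ v = 1) (a b : B) :
    (LieS.scale B f a ≫ v) * (LieS.scale B f b ≫ v) = LieS.scale B f (a + b) ≫ v := by
  have h0 : LieS.scale B f 0 ≫ v = 1 := by rw [scale_zero, Category.assoc, hv, MonObj.comp_one]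
  have key : (pD f 1 0 ≫ v) * (pD f 0 1 ≫ v) = pD f 1 1 ≫ v := by
    refine hom_ext_axes ?_ ?_ <;>
      simp only [MonObj.comp_mul, ← Category.assoc, dD_pD, mul_one, mul_zero, zero_mul, one_mul, add_zero, zero_add,
        h0, scale_one, Category.id_comp, _root_.one_mul, _root_.mul_one]
  have h := congrArg (fun m => dD f a b ≫ m) key
  simp only [MonObj.comp_mul, ← Category.assoc, dD_pD, _root_.mul_one, mul_zero, add_zero, zero_add] at h
  exact h

theorem scale_mul_zero (v : LieS.dpt B f ⟶ X) (hv : LieS.zeroSec B f ≫ v = 1) : LieS.scale B f 0 ≫ v = 1 := by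
  rw [scale_zero, Category.assoc, hv, MonObj.comp_one]

theorem isUnit_iff (v : LieS.dpt B f ⟶ X) : IsUnit v ↔ IsUnit (LieS.zeroSec B f ≫ v) := by
  constructor
  · rintro ⟨u, rfl⟩
    exact ⟨⟨LieS.zeroSec B f ≫ (u : LieS.dpt B f ⟶ X), LieS.zeroSec B f ≫ (↑u⁻¹ : LieS.dpt B f ⟶ X),
      by rw [← MonObj.comp_mul, Units.mul_inv, MonObj.comp_one], by rw [← MonObj.comp_mul, Units.inv_mul, MonObj.comp_one]⟩, rfl⟩
  · rintro ⟨u, hu⟩
    let w : (LieS.dpt B f ⟶ X)ˣ := ⟨LieS.proj B f ≫ (↑u⁻¹ : LieS.pt B f ⟶ X), LieS.proj B f ≫ (u : LieS.pt B f ⟶ X),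
      by rw [← MonObj.comp_mul, Units.inv_mul, MonObj.comp_one], by rw [← MonObj.comp_mul, Units.mul_inv, MonObj.comp_one]⟩
    let v' : LieS.dpt B f ⟶ X := v * (w : LieS.dpt B f ⟶ X)
    have hv' : LieS.zeroSec B f ≫ v' = 1 := by
      show LieS.zeroSec B f ≫ (v * (LieS.proj B f ≫ (↑u⁻¹ : LieS.pt B f ⟶ X))) = 1
      rw [MonObj.comp_mul, ← Category.assoc, LieS.zeroSec_proj, Category.id_comp, ← hu, Units.mul_inv]
    have h1 : IsUnit v' := by
      refine ⟨⟨v', LieS.scale B f (-1) ≫ v', ?_, ?_⟩, rfl⟩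
      · conv_lhs => enter [1]; rw [← Category.id_comp v', ← scale_one]
        rw [scale_mul v' hv', add_neg_cancel, scale_mul_zero v' hv']
      · conv_lhs => enter [2]; rw [← Category.id_comp v', ← scale_one]
        rw [scale_mul v' hv', neg_add_cancel, scale_mul_zero v' hv']
    exact (w.isUnit_mul_units v).mp h1

theorem zpow_eq_scale {G : Over S} [GrpObj G] (v : LieS.dpt B f ⟶ G) (hv : LieS.zeroSec B f ≫ v = 1) (n : ℤ) :
    v ^ n = LieS.scale B f (n : B) ≫ v := by
  let φ : Multiplicative ℤ →* (LieS.dpt B f ⟶ G) :=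
    { toFun := fun m => LieS.scale B f ((m.toAdd : ℤ) : B) ≫ v
      map_one' := by
        show LieS.scale B f ((0 : ℤ) : B) ≫ v = 1
        rw [Int.cast_zero, scale_mul_zero v hv]
      map_mul' := fun a b => by
        rw [toAdd_mul, Int.cast_add, scale_mul v hv] }
  have h : φ (Multiplicative.ofAdd 1) = v := by
    show LieS.scale B f ((1 : ℤ) : B) ≫ v = v
    rw [Int.cast_one, scale_one, Category.id_comp]
  have h2 : φ (Multiplicative.ofAdd 1) ^ n = φ (Multiplicative.ofAdd n) := by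
    rw [← map_zpow, ← ofAdd_zsmul]
    simp
  rw [h] at h2
  exact h2

end Groth.Agent.LieSLib
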