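import Groth.Agent.LieSLib.Comm
import Groth.Agent.FerrandPush.Cat

/-! The bracket of tangent vectors of a group scheme. -/

set_option autoImplicit false
set_option backward.isDefEq.respectTransparency false
set_option backward.isDefEq.respectTransparency.types false
universe u

open CategoryTheory AlgebraicGeometry MonObj GrpObj
open MonoidalCategory CartesianMonoidalCategory

noncomputable section

namespace Groth.Agent.LieSLib

variable {S : Scheme.{u}} {B C : Type u} [CommRing B] [CommRing C] {f : Spec (CommRingCat.of B) ⟶ S}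
  {G : Over S} [GrpObj G]

/-- Points at a free square zero element determine the tangent vector. -/
theorem pb_injective (φ : B →+* C) {a : C} (ha : a * a = 0)
    (hfree : ∀ s t : B, φ s + φ t * a = 0 → s = 0 ∧ t = 0)
    (r : C →+* B) (hr : ∀ b, r (φ b) = b) (hnil : ∀ x, r x = 0 → IsNilpotent x)
    {v w : LieS.Lie G B f} (h : pb φ ha v = pb φ ha w) : v = w := by
  let ψ : CommRingCat.of (DualNumber B) ⟶ CommRingCat.of C := CommRingCat.ofHom (LieS.dualHom φ a ha)
  have hinj : Function.Injective ψ.hom := by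
    refine (injective_iff_map_eq_zero ψ.hom).mpr fun x hx => ?_
    obtain ⟨h1, h2⟩ := hfree x.fst x.snd hx
    exact TrivSqZeroExt.ext h1 h2
  have hsurj : Function.Surjective (PrimeSpectrum.comap ψ.hom) := fun q => by
    let g : C →+* DualNumber B := (algebraMap B (DualNumber B)).comp r
    refine ⟨PrimeSpectrum.comap g q, PrimeSpectrum.ext (Ideal.ext fun x => ?_)⟩
    show g (LieS.dualHom φ a ha x) ∈ q.asIdeal ↔ x ∈ q.asIdeal
    have hn : x - algebraMap B _ x.fst ∈ q.asIdeal := by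
      refine q.isPrime.mem_of_pow_mem 2 ?_
      rw [show (x - algebraMap B _ x.fst) ^ 2 = 0 from TrivSqZeroExt.ext
        (by simp [pow_two, TrivSqZeroExt.algebraMap_eq_inl']) (by simp [pow_two, TrivSqZeroExt.algebraMap_eq_inl'])]
      exact q.asIdeal.zero_mem
    have hna : g a ∈ q.asIdeal := q.isPrime.mem_of_pow_mem 2 (by
      rw [← map_pow, pow_two, ha, map_zero]; exact q.asIdeal.zero_mem)
    have e : g (LieS.dualHom φ a ha x) - x = (algebraMap B _ x.snd * g a) - (x - algebraMap B _ x.fst) := by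
      rw [LieS.dualHom_apply, map_add, map_mul]
      simp only [g, RingHom.comp_apply, hr]
      ring
    have : g (LieS.dualHom φ a ha x) - x ∈ q.asIdeal := e ▸ q.asIdeal.sub_mem (q.asIdeal.mul_mem_left _ hna) hn
    exact ⟨fun hg => by simpa using q.asIdeal.sub_mem hg this, fun hx => by simpa using q.asIdeal.add_mem this hx⟩
  haveI := epi_specMap ψ hinj hsurj
  exact Subtype.ext (Over.OverMorphism.ext ((cancel_epi (Spec.map ψ)).1 (congrArg CommaMorphism.left h)))

/-- The iterated dual numbers, as a type of its own. -/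
def P2 (B : Type u) [CommRing B] : Type u := LieS.D2 B

instance (B : Type u) [CommRing B] : CommRing (P2 B) := inferInstanceAs (CommRing (LieS.D2 B))

/-- Into `P2`. -/
def mk2 (B : Type u) [CommRing B] : LieS.D2 B →+* P2 B where
  toFun x := x
  map_one' := rfl
  map_mul' _ _ := rfl
  map_zero' := rfl
  map_add' _ _ := rfl

/-- Out of `P2`. -/
def un2 (B : Type u) [CommRing B] : P2 B →+* LieS.D2 B where
  toFun x := x
  map_one' := rfl
  map_mul' _ _ := rfl
  map_zero' := rfl
  map_add' _ _ := rfl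

@[simp] theorem un2_mk2 (x : LieS.D2 B) : un2 B (mk2 B x) = x := rfl
@[simp] theorem mk2_un2 (x : P2 B) : mk2 B (un2 B x) = x := rfl

@[ext] theorem P2.ext {x y : P2 B} (h : un2 B x = un2 B y) : x = y := h

/-- The constants of the plane. -/
def toP2 (B : Type u) [CommRing B] : B →+* P2 B := (mk2 B).comp (LieS.toD2 B)

/-- The first parameter. -/
def e₁ (B : Type u) [CommRing B] : P2 B := mk2 B (algebraMap (DualNumber B) (LieS.D2 B) DualNumber.eps)
/-- The second parameter. -/
def e₂ (B : Type u) [CommRing B] : P2 B := mk2 B DualNumber.eps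

theorem e₁_sq : e₁ B * e₁ B = 0 := by rw [e₁, ← map_mul, ← map_mul, LieS.eps_sq, map_zero, map_zero]
theorem e₂_sq : e₂ B * e₂ B = 0 := by rw [e₂, ← map_mul, LieS.eps_sq, map_zero]
theorem e₁₂_sq : e₁ B * e₂ B * (e₁ B * e₂ B) = 0 := by
  linear_combination (e₂ B * e₂ B) * e₁_sq (B := B)

/-- The point at the first parameter. -/
abbrev Q₁ (v : LieS.Lie G B f) : ptC (C := P2 B) f (toP2 B) ⟶ G :=
  pb (C := P2 B) (toP2 B) (a := e₁ B) (e₁_sq (B := B)) v
/-- The point at the second parameter. -/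
abbrev Q₂ (v : LieS.Lie G B f) : ptC (C := P2 B) f (toP2 B) ⟶ G :=
  pb (C := P2 B) (toP2 B) (a := e₂ B) (e₂_sq (B := B)) v
/-- The point at the product of the parameters. -/
abbrev Q₁₂ (v : LieS.Lie G B f) : ptC (C := P2 B) f (toP2 B) ⟶ G :=
  pb (C := P2 B) (toP2 B) (a := e₁ B * e₂ B) (e₁₂_sq (B := B)) v

/-- The restriction to the two axes, on iterated dual numbers. -/
def axes0 (B : Type u) [CommRing B] : LieS.D2 B →+* D B where
  toFun x := TrivSqZeroExt.inl x.fst.fst + TrivSqZeroExt.inr (x.fst.snd, x.snd.fst)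
  map_one' := TrivSqZeroExt.ext (by simp) (by simp)
  map_zero' := TrivSqZeroExt.ext (by simp) (by simp)
  map_add' x y := TrivSqZeroExt.ext (by simp) (by simp)
  map_mul' x y := TrivSqZeroExt.ext (by simp) (Prod.ext (by simp) (by simp))

/-- The restriction to the two axes. -/
def axes (B : Type u) [CommRing B] : P2 B →+* D B := (axes0 B).comp (un2 B)

theorem axes_surjective : Function.Surjective (axes B) := fun x =>
  ⟨mk2 B (TrivSqZeroExt.inl (TrivSqZeroExt.inl x.fst + TrivSqZeroExt.inr x.snd.1) +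
      TrivSqZeroExt.inr (TrivSqZeroExt.inl x.snd.2)), TrivSqZeroExt.ext (by simp [axes, axes0]) (by simp [axes, axes0])⟩

variable (f) in
/-- The axes inside the plane. -/
def axesMap : dptD B f ⟶ ptC (C := P2 B) f (toP2 B) :=
  Over.homMk (Spec.map (CommRingCat.ofHom (axes B))) (by
    change Spec.map _ ≫ Spec.map _ ≫ f = Spec.map _ ≫ f
    rw [← Category.assoc, LieS.specMap_comp]
    congr 3
    exact RingHom.ext fun b => TrivSqZeroExt.ext (by simp [axes, axes0, toP2, LieS.toD2, TrivSqZeroExt.algebraMap_eq_inl'])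
      (by simp [axes, axes0, toP2, LieS.toD2, TrivSqZeroExt.algebraMap_eq_inl']))

theorem dD_axes_ev (s t : B) {c : P2 B} (hc : c * c = 0) (b : B)
    (hcb : (un2 B c).fst.fst = 0 ∧ s * (un2 B c).fst.snd + t * (un2 B c).snd.fst = b) :
    dD f s t ≫ axesMap f ≫ ev (C := P2 B) f (toP2 B) c hc = LieS.scale B f b := by
  refine Over.OverMorphism.ext ?_
  show Spec.map _ ≫ Spec.map _ ≫ Spec.map _ = Spec.map _
  rw [LieS.specMap_comp, LieS.specMap_comp, scaleHom_eq]
  congr 2
  refine RingHom.ext fun x => TrivSqZeroExt.ext ?_ ?_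
  · simp [axes, axes0, dHom, toP2, LieS.toD2, TrivSqZeroExt.algebraMap_eq_inl', hcb.1]
  · simp [axes, axes0, dHom, toP2, LieS.toD2, TrivSqZeroExt.algebraMap_eq_inl', hcb.1, ← hcb.2]
    ring

theorem dD_axes_pb₁ (s t : B) (v : LieS.Lie G B f) :
    dD f s t ≫ axesMap f ≫ Q₁ v = LieS.scale B f s ≫ v.1 := by
  show dD f s t ≫ axesMap f ≫ ev f _ _ _ ≫ v.1 = _
  rw [← Category.assoc (axesMap f), ← Category.assoc (dD f s t),
    dD_axes_ev s t (c := e₁ B) e₁_sq s ⟨by simp [e₁, TrivSqZeroExt.algebraMap_eq_inl'],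
      by simp [e₁, TrivSqZeroExt.algebraMap_eq_inl']⟩]

theorem dD_axes_pb₂ (s t : B) (v : LieS.Lie G B f) :
    dD f s t ≫ axesMap f ≫ Q₂ v = LieS.scale B f t ≫ v.1 := by
  show dD f s t ≫ axesMap f ≫ ev f _ _ _ ≫ v.1 = _
  rw [← Category.assoc (axesMap f), ← Category.assoc (dD f s t),
    dD_axes_ev s t (c := e₂ B) e₂_sq t ⟨by simp [e₂], by simp [e₂]⟩]

theorem axes_comm (x y : LieS.Lie G B f) :
    axesMap f ≫ (Q₂ x * Q₁ y *
      (Q₂ x)⁻¹ * (Q₁ y)⁻¹) = 1 := by
  have hx : LieS.scale B f 0 ≫ x.1 = 1 := scale_mul_zero _ x.2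
  have hy : LieS.scale B f 0 ≫ y.1 = 1 := scale_mul_zero _ y.2
  refine hom_ext_axes ?_ ?_ <;>
    simp only [MonObj.comp_mul, GrpObj.comp_inv, MonObj.comp_one, dD_axes_pb₁, dD_axes_pb₂, hx, hy,
      _root_.one_mul, _root_.mul_one, inv_one, mul_inv_cancel]

/-- The Milnor square of the plane with the axes contracted to a point. -/
def mulCart (B : Type u) [CommRing B] : FerrandPush.Cart (DualNumber B) B (P2 B) (D B) where
  fst := (TrivSqZeroExt.fstHom B B B).toRingHom
  snd := (mk2 B).comp (LieS.mulHom B)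
  p := axes B
  q := TrivSqZeroExt.inlHom B (B × B)
  surj := axes_surjective
  w x := by
    refine TrivSqZeroExt.ext ?_ (Prod.ext ?_ ?_) <;>
      simp [axes, axes0, LieS.mulHom, TrivSqZeroExt.algebraMap_eq_inl', toP2]
  ext' x y h1 h2 := by
    refine TrivSqZeroExt.ext h1 ?_
    have := congrArg (fun z : P2 B => (un2 B z).snd.snd) h2
    simpa [LieS.mulHom, TrivSqZeroExt.algebraMap_eq_inl', toP2] using this
  lift' b a h := by
    have h1 := congrArg TrivSqZeroExt.fst h
    have h2 := congrArg TrivSqZeroExt.snd h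
    have h3 := congrArg Prod.snd h2
    have h4 := congrArg Prod.fst h2
    simp [axes, axes0] at h1 h3 h4
    refine ⟨TrivSqZeroExt.inl b + TrivSqZeroExt.inr (un2 B a).snd.snd, by simp, ?_⟩
    refine P2.ext (TrivSqZeroExt.ext (TrivSqZeroExt.ext ?_ ?_) (TrivSqZeroExt.ext ?_ ?_)) <;>
      simp [LieS.mulHom, TrivSqZeroExt.algebraMap_eq_inl', toP2, h1, h4.symm, h3.symm]

theorem dualHom_e₁₂ : LieS.dualHom (toP2 B) (e₁ B * e₂ B) e₁₂_sq = (mk2 B).comp (LieS.mulHom B) :=
  RingHom.ext fun x => by simp [LieS.mulHom, toP2, e₁, e₂]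

/-- Existence of the bracket. -/
theorem exists_bracket (x y : LieS.Lie G B f) : ∃ z : LieS.Lie G B f,
    Q₁₂ z = Q₂ x * Q₁ y *
      (Q₂ x)⁻¹ * (Q₁ y)⁻¹ := by
  let c : ptC (C := P2 B) f (toP2 B) ⟶ G := Q₂ x * Q₁ y *
      (Q₂ x)⁻¹ * (Q₁ y)⁻¹
  let π : dptD B f ⟶ LieS.pt B f := Over.homMk (Spec.map (CommRingCat.ofHom (TrivSqZeroExt.inlHom B (B × B)))) (by
    change Spec.map _ ≫ f = Spec.map _ ≫ f
    congr 3)
  obtain ⟨l, hl1, hl2⟩ := (mulCart B).exists_desc c.left (1 : LieS.pt B f ⟶ G).left (by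
    have h := (axes_comm x y).trans (MonObj.comp_one (M := G) π).symm
    exact (congrArg CommaMorphism.left h).symm)
  have hlw : l ≫ G.hom = (LieS.dpt B f).hom := by
    refine (mulCart B).hom_ext_of_isOpenImmersion (𝟙 _) _ _ (fun W r s hrs => ?_) (fun W r s hrs => ?_)
    · rw [Category.comp_id] at hrs
      subst hrs
      have h1 : (mulCart B).iB ≫ l ≫ G.hom = (mulCart B).iB ≫ (LieS.dpt B f).hom := by
        rw [← Category.assoc, hl2, Over.w (1 : LieS.pt B f ⟶ G)]
        exact (Over.w (LieS.zeroSec B f)).symm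
      simp only [Category.assoc, h1]
    · rw [Category.comp_id] at hrs
      subst hrs
      have h1 : (mulCart B).iA' ≫ l ≫ G.hom = (mulCart B).iA' ≫ (LieS.dpt B f).hom := by
        rw [← Category.assoc, hl1, Over.w c]
        rw [← Over.w (ev (C := P2 B) f (toP2 B) (e₁ B * e₂ B) (e₁₂_sq (B := B)))]
        show Spec.map (CommRingCat.ofHom (LieS.dualHom (toP2 B) (e₁ B * e₂ B) e₁₂_sq)) ≫ _ = _
        rw [dualHom_e₁₂]
        rfl
      simp only [Category.assoc, h1]
  refine ⟨⟨Over.homMk l hlw, (LieS.mem_Lie_iff G B f _).2 (Over.OverMorphism.ext hl2)⟩, ?_⟩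
  refine Over.OverMorphism.ext ?_
  show Spec.map (CommRingCat.ofHom (LieS.dualHom (toP2 B) (e₁ B * e₂ B) e₁₂_sq)) ≫ l = c.left
  rw [dualHom_e₁₂]
  exact hl1

/-- The bracket. -/
def br (x y : LieS.Lie G B f) : LieS.Lie G B f := (exists_bracket x y).choose

/-- The bracket at arbitrary square zero elements. -/
theorem pb_br (φ : B →+* C) {a a' c : C} (ha : a * a = 0) (ha' : a' * a' = 0) (hc : c * c = 0)
    (h : a * a' = c) (x y : LieS.Lie G B f) :
    pb φ hc (br x y) = pb φ ha x * pb φ ha' y * (pb φ ha x)⁻¹ * (pb φ ha' y)⁻¹ := by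
  let φ2 : P2 B →+* C := (LieS.dualHom (LieS.dualHom φ a' ha') a ha).comp (un2 B)
  let m : ptC f φ ⟶ ptC (C := P2 B) f (toP2 B) := Over.homMk (Spec.map (CommRingCat.ofHom φ2)) (by
    change Spec.map _ ≫ Spec.map _ ≫ f = Spec.map _ ≫ f
    rw [← Category.assoc, LieS.specMap_comp]
    congr 3
    ext b
    simp [φ2, toP2, LieS.toD2, TrivSqZeroExt.algebraMap_eq_inl'])
  have key : ∀ {d : P2 B} (hd : d * d = 0) {d' : C} (hd' : d' * d' = 0), φ2 d = d' →
      ∀ v : LieS.Lie G B f, m ≫ pb (C := P2 B) (toP2 B) hd v = pb φ hd' v := by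
    intro d hd d' hd' he v
    show m ≫ ev f _ _ _ ≫ v.1 = ev f _ _ _ ≫ v.1
    rw [← Category.assoc]
    congr 1
    refine Over.OverMorphism.ext ?_
    show Spec.map _ ≫ Spec.map _ = Spec.map _
    rw [LieS.specMap_comp]
    congr 2
    refine RingHom.ext fun z => ?_
    simp only [RingHom.comp_apply, LieS.dualHom_apply, map_add, map_mul, he]
    simp [φ2, toP2, LieS.toD2, TrivSqZeroExt.algebraMap_eq_inl']
  have h2 := congrArg (fun p => m ≫ p) (exists_bracket x y).choose_spec
  simp only [MonObj.comp_mul, GrpObj.comp_inv] at h2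
  rw [key (d := e₁ B * e₂ B) e₁₂_sq hc (by simp [φ2, e₁, e₂, TrivSqZeroExt.algebraMap_eq_inl', ← h, mul_comm]),
    key (d := e₂ B) e₂_sq ha (by simp [φ2, e₂]), key (d := e₁ B) e₁_sq ha' (by simp [φ2, e₁, TrivSqZeroExt.algebraMap_eq_inl'])] at h2
  exact h2

/-- Interchange of the two parameters. -/
def swap (B : Type u) [CommRing B] : P2 B →+* P2 B :=
  (LieS.dualHom (LieS.dualHom (toP2 B) (e₂ B) e₂_sq) (e₁ B) e₁_sq).comp (un2 B)

theorem swap_eq (x : P2 B) : un2 B (swap B x) =
    TrivSqZeroExt.inl (TrivSqZeroExt.inl (un2 B x).fst.fst + TrivSqZeroExt.inr (un2 B x).snd.fst) +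
    TrivSqZeroExt.inr (TrivSqZeroExt.inl (un2 B x).fst.snd + TrivSqZeroExt.inr (un2 B x).snd.snd) := by
  refine TrivSqZeroExt.ext (TrivSqZeroExt.ext ?_ ?_) (TrivSqZeroExt.ext ?_ ?_) <;>
    simp [swap, e₁, e₂, toP2, LieS.toD2, TrivSqZeroExt.algebraMap_eq_inl']

/-- The functions on the plane invariant under interchange. -/
abbrev symRing (B : Type u) [CommRing B] : Subring (P2 B) :=
  RingHom.eqLocus (swap B) (RingHom.id _)

theorem mem_symRing {x : P2 B} : x ∈ symRing B ↔ (un2 B x).fst.snd = (un2 B x).snd.fst := by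
  show swap B x = x ↔ _
  constructor
  · intro h
    have := congrArg (fun z : P2 B => (un2 B z).fst.snd) h
    simp only [swap_eq] at this
    simpa using this.symm
  · intro h
    refine P2.ext ?_
    rw [swap_eq]
    refine TrivSqZeroExt.ext (TrivSqZeroExt.ext ?_ ?_) (TrivSqZeroExt.ext ?_ ?_) <;> simp [h]

/-- The symmetric Milnor square. -/
def symCart (B : Type u) [CommRing B] : FerrandPush.Cart (symRing B) (DualNumber B) (P2 B) (D B) where
  fst := ((TrivSqZeroExt.fstHom (DualNumber B) (DualNumber B) (DualNumber B)).toRingHom.comp (un2 B)).comp (symRing B).subtype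
  snd := (symRing B).subtype
  p := axes B
  q := (pHom (1 : B) 1).toRingHom
  surj := axes_surjective
  w x := by
    have := mem_symRing.1 x.2
    refine TrivSqZeroExt.ext ?_ (Prod.ext ?_ ?_) <;> simp [axes, axes0, pHom, this]
  ext' x y _ h := Subtype.ext h
  lift' b a h := by
    have h1 : b.fst = (un2 B a).fst.fst := by simpa [axes, axes0, pHom] using congrArg TrivSqZeroExt.fst h
    have h2 : b.snd = (un2 B a).fst.snd := by simpa [axes, axes0, pHom] using congrArg (fun z : D B => z.snd.1) h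
    have h3 : b.snd = (un2 B a).snd.fst := by simpa [axes, axes0, pHom] using congrArg (fun z : D B => z.snd.2) h
    exact ⟨⟨a, mem_symRing.2 (h2.symm.trans h3)⟩, TrivSqZeroExt.ext h1.symm h2.symm, rfl⟩

/-- The bracket is alternating. -/
theorem br_self (x : LieS.Lie G B f) : br x x = 1 := by
  let h : ptC (C := P2 B) f (toP2 B) ⟶ G := Q₁ x * Q₂ x
  have haxes : axesMap f ≫ h = pD f 1 1 ≫ x.1 := by
    have hx : LieS.scale B f 0 ≫ x.1 = 1 := scale_mul_zero _ x.2
    refine hom_ext_axes ?_ ?_ <;>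
      simp only [h, MonObj.comp_mul, dD_axes_pb₁, dD_axes_pb₂, hx] <;>
      simp only [← Category.assoc, dD_pD, _root_.mul_one, _root_.one_mul, add_zero, zero_add, zero_mul]
  obtain ⟨l, hl1, -⟩ := (symCart B).exists_desc h.left x.1.left
    (congrArg CommaMorphism.left haxes).symm
  let sw : ptC (C := P2 B) f (toP2 B) ⟶ ptC (C := P2 B) f (toP2 B) := Over.homMk (Spec.map (CommRingCat.ofHom (swap B))) (by
    change Spec.map _ ≫ Spec.map _ ≫ f = Spec.map _ ≫ f
    rw [← Category.assoc, LieS.specMap_comp]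
    congr 3
    refine RingHom.ext fun b => P2.ext ?_
    rw [RingHom.comp_apply, swap_eq]
    refine TrivSqZeroExt.ext (TrivSqZeroExt.ext ?_ ?_) (TrivSqZeroExt.ext ?_ ?_) <;>
      simp [toP2, LieS.toD2, TrivSqZeroExt.algebraMap_eq_inl'])
  have hsw : sw ≫ h = h := by
    refine Over.OverMorphism.ext ?_
    show Spec.map (CommRingCat.ofHom (swap B)) ≫ h.left = h.left
    rw [← hl1, ← Category.assoc]
    congr 1
    show Spec.map _ ≫ Spec.map _ = Spec.map _
    rw [LieS.specMap_comp]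
    congr 2
    exact RingHom.ext fun z => z.2
  have key : ∀ {d d' : P2 B} (hd : d * d = 0) (hd' : d' * d' = 0), swap B d = d' →
      sw ≫ pb (C := P2 B) (toP2 B) hd x = pb (C := P2 B) (toP2 B) hd' x := by
    intro d d' hd hd' he
    show sw ≫ ev f _ _ _ ≫ x.1 = ev f _ _ _ ≫ x.1
    rw [← Category.assoc]
    congr 1
    refine Over.OverMorphism.ext ?_
    show Spec.map _ ≫ Spec.map _ = Spec.map _
    rw [LieS.specMap_comp]
    congr 2
    refine RingHom.ext fun z => ?_
    simp only [RingHom.comp_apply, LieS.dualHom_apply, map_add, map_mul, he]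
    simp [swap, toP2, LieS.toD2, TrivSqZeroExt.algebraMap_eq_inl']
  simp only [h, MonObj.comp_mul] at hsw
  rw [key (d := e₁ B) (d' := e₂ B) e₁_sq e₂_sq (by simp [swap, e₁, e₂, TrivSqZeroExt.algebraMap_eq_inl']),
    key (d := e₂ B) (d' := e₁ B) e₂_sq e₁_sq (by simp [swap, e₁, e₂])] at hsw
  have h3 := pb_br (C := P2 B) (toP2 B) (a := e₂ B) (a' := e₁ B) (c := e₁ B * e₂ B) (e₂_sq (B := B)) (e₁_sq (B := B)) (e₁₂_sq (B := B)) (mul_comm _ _) x x (f := f)
  rw [hsw, mul_inv_cancel_right, mul_inv_cancel] at h3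
  have hz : Q₁₂ (br x x) = Q₁₂ (1 : LieS.Lie G B f) :=
    h3.trans (pb_one _ _).symm
  refine pb_injective (C := P2 B) (toP2 B) (a := e₁ B * e₂ B) (e₁₂_sq (B := B)) (fun s t hst => ?_)
    (((TrivSqZeroExt.fstHom B B B).toRingHom.comp (TrivSqZeroExt.fstHom (DualNumber B) (DualNumber B) (DualNumber B)).toRingHom).comp (un2 B))
    (fun b => by simp [toP2]) (fun z hz0 => ?_) hz
  · have h1 := congrArg (fun z : P2 B => (un2 B z).fst.fst) hst
    have h2 := congrArg (fun z : P2 B => (un2 B z).snd.snd) hst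
    simp [e₁, e₂, toP2, LieS.toD2, TrivSqZeroExt.algebraMap_eq_inl'] at h1 h2
    exact ⟨h1, h2⟩
  · have h0 : (un2 B z).fst.fst = 0 := by simpa using hz0
    rw [← mk2_un2 z]
    refine IsNilpotent.map ?_ (mk2 B)
    refine TrivSqZeroExt.isNilpotent_iff_isNilpotent_fst.mpr (TrivSqZeroExt.isNilpotent_iff_isNilpotent_fst.mpr ?_)
    rw [h0]; exact IsNilpotent.zero

end Groth.Agent.LieSLib
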