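import Groth.Agent.LieSLib.Add

/-! Infinitesimal points at square zero elements and their commutators. -/

set_option autoImplicit false
set_option backward.isDefEq.respectTransparency false
set_option backward.isDefEq.respectTransparency.types false
universe u

open CategoryTheory AlgebraicGeometry MonObj GrpObj
open MonoidalCategory CartesianMonoidalCategory

noncomputable section

namespace Groth.Agent.LieSLib

variable {S : Scheme.{u}} {B C : Type u} [CommRing B] [CommRing C] {f : Spec (CommRingCat.of B) ⟶ S}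

variable (f) in
/-- `Spec C` over `S` through `φ`. -/
abbrev ptC (φ : B →+* C) : Over S := LieS.pt C (Spec.map (CommRingCat.ofHom φ) ≫ f)

variable (f) in
/-- The point `ε ↦ a`. -/
def ev (φ : B →+* C) (a : C) (ha : a * a = 0) : ptC f φ ⟶ LieS.dpt B f :=
  Over.homMk (Spec.map (CommRingCat.ofHom (LieS.dualHom φ a ha))) (by
    change Spec.map _ ≫ Spec.map _ ≫ f = Spec.map _ ≫ f
    rw [← Category.assoc, LieS.specMap_comp, LieS.dualHom_comp_algebraMap])

/-- `(x, (s, t)) ↦ φ x + φ s a + φ t a'`. -/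
def pairHom (φ : B →+* C) {a a' : C} (ha : a * a = 0) (ha' : a' * a' = 0) (h : a * a' = 0) : D B →+* C where
  toFun x := φ x.fst + φ x.snd.1 * a + φ x.snd.2 * a'
  map_one' := by simp
  map_zero' := by simp
  map_add' x y := by
    simp only [TrivSqZeroExt.fst_add, TrivSqZeroExt.snd_add, Prod.fst_add, Prod.snd_add, map_add]
    ring
  map_mul' x y := by
    simp only [TrivSqZeroExt.fst_mul, TrivSqZeroExt.snd_mul, Prod.fst_add, Prod.snd_add, Prod.smul_fst,
      Prod.smul_snd, smul_eq_mul, MulOpposite.smul_eq_mul_unop, MulOpposite.unop_op, map_add, map_mul]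
    linear_combination (-(φ x.snd.1) * φ y.snd.1) * ha + (-(φ x.snd.2) * φ y.snd.2) * ha' +
      (-(φ x.snd.1) * φ y.snd.2 - φ x.snd.2 * φ y.snd.1) * h

variable (f) in
/-- The point of the two parameter thickening. -/
def evPair (φ : B →+* C) {a a' : C} (ha : a * a = 0) (ha' : a' * a' = 0) (h : a * a' = 0) :
    ptC f φ ⟶ dptD B f :=
  Over.homMk (Spec.map (CommRingCat.ofHom (pairHom φ ha ha' h))) (by
    change Spec.map _ ≫ Spec.map _ ≫ f = Spec.map _ ≫ f
    rw [← Category.assoc, LieS.specMap_comp]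
    congr 3
    ext b
    simp [pairHom, TrivSqZeroExt.algebraMap_eq_inl'])

theorem evPair_pD (φ : B →+* C) {a a' : C} (ha : a * a = 0) (ha' : a' * a' = 0) (h : a * a' = 0) (s t : B)
    {c : C} (hc : c * c = 0) (hst : φ s * a + φ t * a' = c) :
    evPair f φ ha ha' h ≫ pD f s t = ev f φ c hc := by
  refine Over.OverMorphism.ext ?_
  show Spec.map _ ≫ Spec.map _ = Spec.map _
  rw [LieS.specMap_comp]
  congr 2
  refine RingHom.ext fun x => ?_
  simp [pairHom, pHom, ← hst]
  ring

theorem ev_congr (φ : B →+* C) {a b : C} (ha : a * a = 0) (hb : b * b = 0) (h : a = b) : ev f φ a ha = ev f φ b hb := by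
  subst h; rfl

theorem ev_scale (φ : B →+* C) {a : C} (ha : a * a = 0) (b : B) (hba : φ b * a * (φ b * a) = 0) :
    ev f φ a ha ≫ LieS.scale B f b = ev f φ (φ b * a) hba := by
  refine Over.OverMorphism.ext ?_
  show Spec.map _ ≫ Spec.map _ = Spec.map _
  rw [LieS.specMap_comp]
  congr 2
  refine RingHom.ext fun x => ?_
  simp [LieS.scaleHom, TrivSqZeroExt.algebraMap_eq_inl']
  ring

theorem ev_zero (φ : B →+* C) :
    ev f φ 0 (mul_zero 0) = (Over.homMk (Spec.map (CommRingCat.ofHom φ)) rfl : ptC f φ ⟶ LieS.pt B f) ≫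
      LieS.zeroSec B f := by
  refine Over.OverMorphism.ext ?_
  show Spec.map _ = Spec.map _ ≫ Spec.map _
  rw [LieS.specMap_comp]
  congr 2
  exact RingHom.ext fun x => by simp

variable {G : Over S} [GrpObj G]

variable (φ : B →+* C)

/-- The point of `G` at the square zero element `a` given by a tangent vector. -/
def pb {a : C} (ha : a * a = 0) (v : LieS.Lie G B f) : ptC f φ ⟶ G := ev f φ a ha ≫ v.1

theorem pb_mul {a : C} (ha : a * a = 0) (v w : LieS.Lie G B f) : pb φ ha (v * w) = pb φ ha v * pb φ ha w :=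
  MonObj.comp_mul _ _ _

theorem pb_one {a : C} (ha : a * a = 0) : pb φ ha (1 : LieS.Lie G B f) = 1 := MonObj.comp_one _

theorem pb_congr {a b : C} (ha : a * a = 0) (hb : b * b = 0) (h : a = b) (v : LieS.Lie G B f) :
    pb φ ha v = pb φ hb v := by subst h; rfl

theorem pb_zero {a : C} (ha : a * a = 0) (h : a = 0) (v : LieS.Lie G B f) : pb φ ha v = 1 := by
  subst h
  show ev f φ 0 _ ≫ v.1 = 1
  rw [ev_zero, Category.assoc, (LieS.mem_Lie_iff G B f v.1).1 v.2, MonObj.comp_one]

theorem pb_smul {a : C} (ha : a * a = 0) (b : B) (v : LieS.Lie G B f)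
    (hba : φ b * a * (φ b * a) = 0) : pb φ ha (b • v) = pb φ hba v := by
  show ev f φ a ha ≫ LieS.scale B f b ≫ v.1 = _
  rw [← Category.assoc, ev_scale φ ha b hba]
  rfl

theorem commD (v w : LieS.Lie G B f) :
    (pD f 1 0 ≫ v.1) * (pD f 0 1 ≫ w.1) = (pD f 0 1 ≫ w.1) * (pD f 1 0 ≫ v.1) := by
  have hv : LieS.scale B f 0 ≫ v.1 = 1 := scale_mul_zero _ v.2
  have hw : LieS.scale B f 0 ≫ w.1 = 1 := scale_mul_zero _ w.2
  refine hom_ext_axes ?_ ?_ <;>
    simp only [MonObj.comp_mul, ← Category.assoc, dD_pD, mul_one, mul_zero, zero_mul, one_mul, add_zero, zero_add,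
      hv, hw, scale_one, Category.id_comp, _root_.one_mul, _root_.mul_one]

/-- Points at orthogonal elements commute. -/
theorem pb_comm {a a' : C} (ha : a * a = 0) (ha' : a' * a' = 0) (h : a * a' = 0) (v w : LieS.Lie G B f) :
    pb φ ha v * pb φ ha' w = pb φ ha' w * pb φ ha v := by
  have := congrArg (fun m => evPair f φ ha ha' h ≫ m) (commD v w)
  simp only [MonObj.comp_mul, ← Category.assoc, evPair_pD φ ha ha' h 1 0 ha (by simp),
    evPair_pD φ ha ha' h 0 1 ha' (by simp)] at this
  exact this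

/-- `Lie(G)` is commutative. -/
theorem lie_comm (v w : LieS.Lie G B f) : v * w = w * v := by
  refine Subtype.ext ?_
  have := congrArg (fun m => dD f 1 1 ≫ m) (commD v w)
  simp only [MonObj.comp_mul, ← Category.assoc, dD_pD, _root_.mul_one, mul_zero, zero_mul, one_mul, add_zero, zero_add,
    scale_one, Category.id_comp] at this
  exact this

theorem smul_add' (v : LieS.Lie G B f) (a b : B) : (a + b) • v = a • v * b • v :=
  Subtype.ext (scale_mul _ v.2 a b).symm

theorem smul_mul' (v w : LieS.Lie G B f) (a : B) : a • (v * w) = a • v * a • w :=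
  Subtype.ext (MonObj.comp_mul _ _ _)

theorem smul_one' (a : B) : a • (1 : LieS.Lie G B f) = 1 := Subtype.ext (MonObj.comp_one _)

theorem zero_smul' (v : LieS.Lie G B f) : (0 : B) • v = 1 := Subtype.ext (scale_mul_zero _ v.2)

theorem one_smul' (v : LieS.Lie G B f) : (1 : B) • v = v :=
  Subtype.ext (by rw [LieS.smul_val, scale_one, Category.id_comp])

theorem mul_smul' (v : LieS.Lie G B f) (a b : B) : (a * b) • v = a • b • v := by
  refine Subtype.ext ?_
  simp only [LieS.smul_val, ← Category.assoc]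
  congr 1
  refine Over.OverMorphism.ext ?_
  show Spec.map (CommRingCat.ofHom (LieS.scaleHom (a * b))) =
    Spec.map (CommRingCat.ofHom (LieS.scaleHom a)) ≫ Spec.map (CommRingCat.ofHom (LieS.scaleHom b))
  rw [LieS.specMap_comp, scaleHom_eq, scaleHom_eq, scaleHom_eq]
  congr 2
  exact RingHom.ext fun x => TrivSqZeroExt.ext (by simp) (by simp; ring)

end Groth.Agent.LieSLib
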