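import Mathlib

/-! An injective ring map surjective on spectra gives an epimorphism of schemes. -/

set_option autoImplicit false
set_option backward.isDefEq.respectTransparency false
universe u

open CategoryTheory AlgebraicGeometry

noncomputable section

namespace Groth.Agent.LieSLib

theorem epi_specMap {A C : CommRingCat.{u}} (φ : A ⟶ C) (hinj : Function.Injective φ.hom)
    (hsurj : Function.Surjective (PrimeSpectrum.comap φ.hom)) : Epi (Spec.map φ) := by
  refine ⟨fun {X} h₁ h₂ e => ?_⟩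
  have hb : ∀ x, h₁ x = h₂ x := fun x => by
    obtain ⟨y, rfl⟩ := hsurj x
    exact congrArg (fun m : Spec C ⟶ X => m y) e
  have hloc : ∀ x : Spec A, ∃ (r : A) (V : X.Opens), IsAffineOpen V ∧ x ∈ PrimeSpectrum.basicOpen r ∧
      ((PrimeSpectrum.basicOpen r : TopologicalSpace.Opens (PrimeSpectrum A)) : Set (PrimeSpectrum A)) ⊆ (h₁ ⁻¹' V : Set (Spec A)) := fun x => by
    obtain ⟨V, hV, hxV, -⟩ := exists_isAffineOpen_mem_and_subset (X := X) (x := h₁ x) (U := ⊤) trivial
    obtain ⟨_, ⟨r, rfl⟩, hxr, hrV⟩ :=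
      PrimeSpectrum.isTopologicalBasis_basic_opens.exists_subset_of_mem_open hxV (h₁ ⁻¹ᵁ V).2
    exact ⟨r, V, hV, hxr, hrV⟩
  choose r V hV hxr hrV using hloc
  have hspan : Ideal.span (Set.range r) = ⊤ := by
    rw [← PrimeSpectrum.iSup_basicOpen_eq_top_iff, eq_top_iff]
    exact fun x _ => TopologicalSpace.Opens.mem_iSup.mpr ⟨x, hxr x⟩
  refine (Scheme.affineOpenCoverOfSpanRangeEqTop r hspan).openCover.hom_ext _ _ fun (x : Spec A) => ?_
  show Spec.map (CommRingCat.ofHom (algebraMap A (Localization.Away (r x)))) ≫ h₁ =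
    Spec.map (CommRingCat.ofHom (algebraMap A (Localization.Away (r x)))) ≫ h₂
  let Aₓ := Localization.Away (r x)
  let Cₓ := Localization.Away (φ.hom (r x))
  let ι : Spec (CommRingCat.of Aₓ) ⟶ Spec A := Spec.map (CommRingCat.ofHom (algebraMap A Aₓ))
  let ψ : Aₓ →+* Cₓ := IsLocalization.Away.map Aₓ Cₓ φ.hom (r x)
  have hψ : Function.Injective ψ := by
    exact (IsLocalization.Away.map_injective_iff Cₓ φ.hom (r x)).mpr fun a ha => ⟨0, by rw [hinj (ha.trans (map_zero φ.hom).symm), mul_zero]⟩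
  haveI : IsAffine (V x : Scheme) := hV x
  have hr : ∀ m : Spec (CommRingCat.of Aₓ), ι m ∈ PrimeSpectrum.basicOpen (r x) := fun m => by
    have := PrimeSpectrum.localization_away_comap_range Aₓ (r x)
    exact this.le ⟨m, rfl⟩
  have hl₁ : Set.range (ι ≫ h₁) ⊆ Set.range (V x).ι := by
    rintro _ ⟨m, rfl⟩
    rw [Scheme.Opens.range_ι]
    exact hrV x (hr m)
  have hl₂ : Set.range (ι ≫ h₂) ⊆ Set.range (V x).ι := by
    rintro _ ⟨m, rfl⟩
    rw [Scheme.Opens.range_ι]
    show h₂ (ι m) ∈ V x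
    rw [← hb]
    exact hrV x (hr m)
  suffices h : IsOpenImmersion.lift (V x).ι (ι ≫ h₁) hl₁ = IsOpenImmersion.lift (V x).ι (ι ≫ h₂) hl₂ by
    have := congrArg (· ≫ (V x).ι) h
    simpa [IsOpenImmersion.lift_fac] using this
  have hcomm : Spec.map (CommRingCat.ofHom ψ) ≫ ι =
      Spec.map (CommRingCat.ofHom (algebraMap C Cₓ)) ≫ Spec.map φ := by
    rw [← Spec.map_comp, ← Spec.map_comp]
    congr 1
    refine CommRingCat.hom_ext (RingHom.ext fun a => ?_)
    have hy : Submonoid.powers (r x) ≤ (Submonoid.powers (φ.hom (r x))).comap φ.hom := by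
      rintro _ ⟨n, rfl⟩
      exact ⟨n, (map_pow φ.hom (r x) n).symm⟩
    exact IsLocalization.map_eq (M := Submonoid.powers (r x)) (T := Submonoid.powers (φ.hom (r x))) (S := Aₓ) (Q := Cₓ) hy a
  have h2 : Spec.map (CommRingCat.ofHom ψ) ≫ IsOpenImmersion.lift (V x).ι (ι ≫ h₁) hl₁ =
      Spec.map (CommRingCat.ofHom ψ) ≫ IsOpenImmersion.lift (V x).ι (ι ≫ h₂) hl₂ := by
    rw [← cancel_mono (V x).ι, Category.assoc, Category.assoc, IsOpenImmersion.lift_fac, IsOpenImmersion.lift_fac,
      ← Category.assoc, ← Category.assoc, hcomm, Category.assoc, Category.assoc, e]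
  have hinj2 : Function.Injective (Spec.map (CommRingCat.ofHom ψ)).appTop.hom := by
    intro a b hab
    have hnat := Scheme.ΓSpecIso_naturality (CommRingCat.ofHom ψ)
    refine (Scheme.ΓSpecIso (CommRingCat.of Aₓ)).commRingCatIsoToRingEquiv.injective (hψ ?_)
    have ha := ConcreteCategory.congr_hom hnat a
    have hb' := ConcreteCategory.congr_hom hnat b
    exact ha.symm.trans ((congrArg (Scheme.ΓSpecIso (CommRingCat.of Cₓ)).hom hab).trans hb')
  refine ext_of_isAffine (CommRingCat.hom_ext (RingHom.ext fun a => hinj2 ?_))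
  have h3 := congrArg Scheme.Hom.appTop h2
  rw [Scheme.Hom.comp_appTop, Scheme.Hom.comp_appTop] at h3
  exact ConcreteCategory.congr_hom h3 a

end Groth.Agent.LieSLib
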