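import Groth.Agent.LieSLib.Bracket

/-! The Lie algebra of a group scheme. -/

set_option autoImplicit false
set_option backward.isDefEq.respectTransparency false
set_option backward.isDefEq.respectTransparency.types false
universe u

open CategoryTheory AlgebraicGeometry MonObj GrpObj
open MonoidalCategory CartesianMonoidalCategory

noncomputable section

namespace Groth.Agent.LieSLib

theorem bracket_identity {K : Type*} [Group K] {X Y Z W V U T₁ T₂ T₃ : K}
    (hW : X * Y = W * (Y * X)) (hV : X * Z = V * (Z * X)) (hU : Y * Z = U * (Z * Y))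
    (h₁ : Y * V = T₁ * (V * Y)) (h₂ : W * Z = T₂ * (Z * W)) (h₃ : X * U = T₃ * (U * X))
    (hWV : W * V = V * W) (hWU : W * U = U * W) (hVU : V * U = U * V)
    (hT₁ : ∀ g ∈ ({U, W, V} : Set K), g * T₁ = T₁ * g) (hT₂ : ∀ g ∈ ({U, W, V} : Set K), g * T₂ = T₂ * g)
    (hT₃ : ∀ g ∈ ({U, W, V} : Set K), g * T₃ = T₃ * g) : T₃ = T₁ * T₂ := by
  have e : X * (Y * Z) = T₃ * U * (V * Z) * (W * Y) * X := by
    calc X * (Y * Z) = (X * U) * (Z * Y) := by rw [hU, _root_.mul_assoc]
      _ = T₃ * U * ((X * Z) * Y) := by rw [h₃]; simp only [_root_.mul_assoc]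
      _ = T₃ * U * (V * Z) * (X * Y) := by rw [hV]; simp only [_root_.mul_assoc]
      _ = T₃ * U * (V * Z) * (W * Y) * X := by rw [hW]; simp only [_root_.mul_assoc]
  have e' : (X * Y) * Z = T₁ * T₂ * U * (V * Z) * (W * Y) * X := by
    have aY : Y * (V * Z) = T₁ * U * (V * Z) * Y := by
      calc Y * (V * Z) = (Y * V) * Z := (_root_.mul_assoc _ _ _).symm
        _ = T₁ * V * (Y * Z) := by rw [h₁]; simp only [_root_.mul_assoc]
        _ = T₁ * (V * U) * (Z * Y) := by rw [hU]; simp only [_root_.mul_assoc]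
        _ = T₁ * U * (V * Z) * Y := by rw [hVU]; simp only [_root_.mul_assoc]
    calc (X * Y) * Z = W * Y * (X * Z) := by rw [hW]; simp only [_root_.mul_assoc]
      _ = W * (Y * (V * Z)) * X := by rw [hV]; simp only [_root_.mul_assoc]
      _ = (W * T₁) * U * (V * Z) * Y * X := by rw [aY]; simp only [_root_.mul_assoc]
      _ = T₁ * (W * U) * (V * Z) * Y * X := by rw [hT₁ W (by simp)]; simp only [_root_.mul_assoc]
      _ = T₁ * U * (W * V) * Z * Y * X := by rw [hWU]; simp only [_root_.mul_assoc]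
      _ = T₁ * U * V * (W * Z) * Y * X := by rw [hWV]; simp only [_root_.mul_assoc]
      _ = T₁ * U * (V * T₂) * Z * W * Y * X := by rw [h₂]; simp only [_root_.mul_assoc]
      _ = T₁ * (U * T₂) * V * Z * W * Y * X := by rw [hT₂ V (by simp)]; simp only [_root_.mul_assoc]
      _ = T₁ * T₂ * U * (V * Z) * (W * Y) * X := by rw [hT₂ U (by simp)]; simp only [_root_.mul_assoc]
  have := e.symm.trans ((_root_.mul_assoc X Y Z).symm.trans e')
  simpa only [mul_left_inj] using this

variable {S : Scheme.{u}} {B C : Type u} [CommRing B] [CommRing C] {f : Spec (CommRingCat.of B) ⟶ S}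
  {G : Over S} [GrpObj G]

theorem Q₁₂_injective {v w : LieS.Lie G B f} (h : Q₁₂ v = Q₁₂ w) : v = w := by
  refine pb_injective (C := P2 B) (toP2 B) (a := e₁ B * e₂ B) (e₁₂_sq (B := B)) (fun s t hst => ?_)
    (((TrivSqZeroExt.fstHom B B B).toRingHom.comp (TrivSqZeroExt.fstHom (DualNumber B) (DualNumber B) (DualNumber B)).toRingHom).comp (un2 B))
    (fun b => by simp [toP2]) (fun z hz0 => ?_) h
  · have h1 := congrArg (fun z : P2 B => (un2 B z).fst.fst) hst
    have h2 := congrArg (fun z : P2 B => (un2 B z).snd.snd) hst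
    simp [e₁, e₂, toP2, LieS.toD2, TrivSqZeroExt.algebraMap_eq_inl'] at h1 h2
    exact ⟨h1, h2⟩
  · have h0 : (un2 B z).fst.fst = 0 := by simpa using hz0
    rw [← mk2_un2 z]
    refine IsNilpotent.map ?_ (mk2 B)
    refine TrivSqZeroExt.isNilpotent_iff_isNilpotent_fst.mpr (TrivSqZeroExt.isNilpotent_iff_isNilpotent_fst.mpr ?_)
    rw [h0]; exact IsNilpotent.zero

variable (φ : B →+* C)

/-- The bracket at orthogonal square zero elements, as a commutation rule. -/
theorem pb_swap {a a' c : C} (ha : a * a = 0) (ha' : a' * a' = 0) (hc : c * c = 0) (h : a * a' = c)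
    (x y : LieS.Lie G B f) :
    pb φ ha x * pb φ ha' y = pb φ hc (br x y) * (pb φ ha' y * pb φ ha x) := by
  rw [pb_br φ ha ha' hc h]
  simp only [_root_.mul_assoc, inv_mul_cancel_left, inv_mul_cancel, _root_.mul_one]

theorem e₂₁ : e₂ B * e₁ B = e₁ B * e₂ B := mul_comm _ _

theorem Q_br (x y : LieS.Lie G B f) : Q₁₂ (br x y) = Q₂ x * Q₁ y * (Q₂ x)⁻¹ * (Q₁ y)⁻¹ :=
  pb_br (C := P2 B) (toP2 B) (a := e₂ B) (a' := e₁ B) (c := e₁ B * e₂ B) (e₂_sq (B := B)) (e₁_sq (B := B))
    (e₁₂_sq (B := B)) e₂₁ x y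

theorem Q₁₂_comm₁ (v w : LieS.Lie G B f) : Q₁₂ v * Q₁ w = Q₁ w * Q₁₂ v :=
  pb_comm (toP2 B) (a := e₁ B * e₂ B) (a' := e₁ B) (e₁₂_sq (B := B)) (e₁_sq (B := B))
    (by linear_combination e₂ B * e₁_sq (B := B)) v w

theorem Q₁₂_comm₂ (v w : LieS.Lie G B f) : Q₁₂ v * Q₂ w = Q₂ w * Q₁₂ v :=
  pb_comm (toP2 B) (a := e₁ B * e₂ B) (a' := e₂ B) (e₁₂_sq (B := B)) (e₂_sq (B := B))
    (by linear_combination e₁ B * e₂_sq (B := B)) v w

theorem br_mul_left (x x' y : LieS.Lie G B f) : br (x * x') y = br x y * br x' y := by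
  rw [lie_comm (br x y)]
  apply Q₁₂_injective
  rw [Q_br, show Q₁₂ (br x' y * br x y) = Q₁₂ (br x' y) * Q₁₂ (br x y) from pb_mul _ _ _ _,
    show Q₂ (x * x') = Q₂ x * Q₂ x' from pb_mul _ _ _ _]
  have e : Q₂ x' * Q₁ y = Q₁₂ (br x' y) * Q₁ y * Q₂ x' := by rw [Q_br]; group
  calc Q₂ x * Q₂ x' * Q₁ y * (Q₂ x * Q₂ x')⁻¹ * (Q₁ y)⁻¹
      = Q₂ x * (Q₂ x' * Q₁ y) * (Q₂ x')⁻¹ * (Q₂ x)⁻¹ * (Q₁ y)⁻¹ := by group
    _ = (Q₂ x * Q₁₂ (br x' y)) * Q₁ y * (Q₂ x)⁻¹ * (Q₁ y)⁻¹ := by rw [e]; group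
    _ = _ := by rw [← Q₁₂_comm₂, Q_br x y]; group

theorem br_mul_right (x y y' : LieS.Lie G B f) : br x (y * y') = br x y * br x y' := by
  apply Q₁₂_injective
  rw [Q_br, show Q₁₂ (br x y * br x y') = Q₁₂ (br x y) * Q₁₂ (br x y') from pb_mul _ _ _ _,
    show Q₁ (y * y') = Q₁ y * Q₁ y' from pb_mul _ _ _ _]
  have e : Q₂ x * Q₁ y = Q₁₂ (br x y) * Q₁ y * Q₂ x := by rw [Q_br]; group
  calc Q₂ x * (Q₁ y * Q₁ y') * (Q₂ x)⁻¹ * (Q₁ y * Q₁ y')⁻¹
      = (Q₂ x * Q₁ y) * Q₁ y' * (Q₂ x)⁻¹ * (Q₁ y')⁻¹ * (Q₁ y)⁻¹ := by group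
    _ = Q₁₂ (br x y) * (Q₁ y * Q₁₂ (br x y')) * (Q₁ y)⁻¹ := by rw [e, Q_br x y']; group
    _ = _ := by rw [← Q₁₂_comm₁]; group

theorem br_smul_left (b : B) (x y : LieS.Lie G B f) : br (b • x) y = b • br x y := by
  apply Q₁₂_injective
  have h2 : toP2 B b * e₂ B * (toP2 B b * e₂ B) = 0 := by linear_combination toP2 B b ^ 2 * e₂_sq (B := B)
  have h12 : toP2 B b * (e₁ B * e₂ B) * (toP2 B b * (e₁ B * e₂ B)) = 0 := by
    linear_combination toP2 B b ^ 2 * e₁₂_sq (B := B)
  rw [Q_br, show Q₂ (b • x) = pb (C := P2 B) (toP2 B) (a := toP2 B b * e₂ B) h2 x from pb_smul _ _ b x h2,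
    show Q₁₂ (b • br x y) = pb (C := P2 B) (toP2 B) (a := toP2 B b * (e₁ B * e₂ B)) h12 (br x y) from pb_smul _ _ b _ h12,
    pb_br (C := P2 B) (toP2 B) (a := toP2 B b * e₂ B) (a' := e₁ B) h2 (e₁_sq (B := B)) h12 (by ring)]

theorem br_smul_right (b : B) (x y : LieS.Lie G B f) : br x (b • y) = b • br x y := by
  apply Q₁₂_injective
  have h1 : toP2 B b * e₁ B * (toP2 B b * e₁ B) = 0 := by linear_combination toP2 B b ^ 2 * e₁_sq (B := B)
  have h12 : toP2 B b * (e₁ B * e₂ B) * (toP2 B b * (e₁ B * e₂ B)) = 0 := by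
    linear_combination toP2 B b ^ 2 * e₁₂_sq (B := B)
  rw [Q_br, show Q₁ (b • y) = pb (C := P2 B) (toP2 B) (a := toP2 B b * e₁ B) h1 y from pb_smul _ _ b y h1,
    show Q₁₂ (b • br x y) = pb (C := P2 B) (toP2 B) (a := toP2 B b * (e₁ B * e₂ B)) h12 (br x y) from pb_smul _ _ b _ h12,
    pb_br (C := P2 B) (toP2 B) (a := e₂ B) (a' := toP2 B b * e₁ B) (e₂_sq (B := B)) h1 h12 (by ring)]

/-- The Jacobi identity, read at three parameters. -/
theorem jacobi_pb {a b c d : C} (ha : a * a = 0) (hb : b * b = 0) (hc : c * c = 0) (hd : d * d = 0)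
    (hdd : d = a * b * c) (x y z : LieS.Lie G B f) :
    pb φ hd (br x (br y z)) = pb φ hd (br (br x y) z * br y (br x z)) := by
  subst hdd
  have hab : a * b * (a * b) = 0 := by linear_combination b * b * ha
  have hac : a * c * (a * c) = 0 := by linear_combination c * c * ha
  have hbc : b * c * (b * c) = 0 := by linear_combination c * c * hb
  rw [lie_comm (br (br x y) z), pb_mul]
  have hT : ∀ t : LieS.Lie G B f, ∀ g ∈ ({pb φ hbc (br y z), pb φ hab (br x y), pb φ hac (br x z)} :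
      Set (ptC f φ ⟶ G)), g * pb φ hd t = pb φ hd t * g := by
    rintro t g (rfl | rfl | rfl)
    · exact pb_comm φ hbc hd (by linear_combination a * c * c * hb) _ _
    · exact pb_comm φ hab hd (by linear_combination b * b * c * ha) _ _
    · exact pb_comm φ hac hd (by linear_combination b * c * c * ha) _ _
  refine bracket_identity (X := pb φ ha x) (Y := pb φ hb y) (Z := pb φ hc z) (W := pb φ hab (br x y))
    (V := pb φ hac (br x z)) (U := pb φ hbc (br y z)) (pb_swap φ ha hb hab rfl x y) (pb_swap φ ha hc hac rfl x z)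
    (pb_swap φ hb hc hbc rfl y z) (pb_swap φ hb hac hd (by ring) y _) (pb_swap φ hab hc hd rfl _ z)
    (pb_swap φ ha hbc hd (by ring) x _) ?_ ?_ ?_ (hT _) (hT _) (hT _)
  · exact pb_comm φ hab hac (by linear_combination b * c * ha) _ _
  · exact pb_comm φ hab hbc (by linear_combination a * c * hb) _ _
  · exact pb_comm φ hac hbc (by linear_combination a * b * hc) _ _

/-- Three infinitesimal parameters. -/
def P3 (B : Type u) [CommRing B] : Type u := DualNumber (P2 B)

instance (B : Type u) [CommRing B] : CommRing (P3 B) := inferInstanceAs (CommRing (DualNumber (P2 B)))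

/-- Into `P3`. -/
def mk3 (B : Type u) [CommRing B] : DualNumber (P2 B) →+* P3 B where
  toFun x := x
  map_one' := rfl
  map_mul' _ _ := rfl
  map_zero' := rfl
  map_add' _ _ := rfl

/-- Out of `P3`. -/
def un3 (B : Type u) [CommRing B] : P3 B →+* DualNumber (P2 B) where
  toFun x := x
  map_one' := rfl
  map_mul' _ _ := rfl
  map_zero' := rfl
  map_add' _ _ := rfl

@[simp] theorem un3_mk3 (x : DualNumber (P2 B)) : un3 B (mk3 B x) = x := rfl
@[simp] theorem mk3_un3 (x : P3 B) : mk3 B (un3 B x) = x := rfl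

theorem br_jacobi (x y z : LieS.Lie G B f) : br x (br y z) = br (br x y) z * br y (br x z) := by
  let i : P2 B →+* P3 B := (mk3 B).comp (algebraMap (P2 B) (DualNumber (P2 B)))
  let a : P3 B := i (e₁ B)
  let b : P3 B := i (e₂ B)
  let c : P3 B := mk3 B DualNumber.eps
  have ha : a * a = 0 := by simp only [a, ← map_mul, e₁_sq, map_zero]
  have hb : b * b = 0 := by simp only [b, ← map_mul, e₂_sq, map_zero]
  have hc : c * c = 0 := by simp only [c, ← map_mul, LieS.eps_sq, map_zero]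
  have hd : a * b * c * (a * b * c) = 0 := by linear_combination b * b * c * c * ha
  refine pb_injective (i.comp (toP2 B)) hd (fun s t hst => ?_)
    ((((TrivSqZeroExt.fstHom B B B).toRingHom.comp (TrivSqZeroExt.fstHom (DualNumber B) (DualNumber B) (DualNumber B)).toRingHom).comp (un2 B)).comp
      ((TrivSqZeroExt.fstHom (P2 B) (P2 B) (P2 B)).toRingHom.comp (un3 B)))
    (fun s => by simp [i, toP2, TrivSqZeroExt.algebraMap_eq_inl']) (fun w hw => ?_)
    (jacobi_pb (i.comp (toP2 B)) ha hb hc hd rfl x y z)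
  · have h1 := congrArg (fun w : P3 B => (un2 B (un3 B w).fst).fst.fst) hst
    have h2 := congrArg (fun w : P3 B => (un2 B (un3 B w).snd).snd.snd) hst
    simp [i, a, b, c, e₁, e₂, toP2, LieS.toD2, TrivSqZeroExt.algebraMap_eq_inl'] at h1 h2
    exact ⟨h1, h2⟩
  · rw [← mk3_un3 w]
    refine IsNilpotent.map (TrivSqZeroExt.isNilpotent_iff_isNilpotent_fst.mpr ?_) (mk3 B)
    rw [← mk2_un2 (un3 B w).fst]
    refine IsNilpotent.map ?_ (mk2 B)
    refine TrivSqZeroExt.isNilpotent_iff_isNilpotent_fst.mpr (TrivSqZeroExt.isNilpotent_iff_isNilpotent_fst.mpr ?_)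
    have h0 : (un2 B (un3 B w).fst).fst.fst = 0 := by simpa using hw
    rw [h0]; exact IsNilpotent.zero

variable (G f)

/-- The Lie algebra of `G` at `f`. -/
def LieAlg : Type u := Additive (LieS.Lie G B f)

variable {G f}

/-- From the group of tangent vectors. -/
def LieAlg.mk (v : LieS.Lie G B f) : LieAlg f G := Additive.ofMul v
/-- To the group of tangent vectors. -/
def LieAlg.val (x : LieAlg f G) : LieS.Lie G B f := Additive.toMul (α := LieS.Lie G B f) x

@[ext] theorem LieAlg.ext {x y : LieAlg f G} (h : x.val = y.val) : x = y := h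

instance : AddCommGroup (LieAlg f G) :=
  { (inferInstanceAs (AddGroup (Additive (LieS.Lie G B f))) : AddGroup (LieAlg f G)) with
    add_comm := fun x y => lie_comm x.val y.val }

instance : Module B (LieAlg f G) where
  smul b x := LieAlg.mk (b • x.val)
  one_smul x := one_smul' x.val
  mul_smul a b x := mul_smul' x.val a b
  smul_zero a := smul_one' a
  smul_add a x y := smul_mul' x.val y.val a
  add_smul a b x := smul_add' x.val a b
  zero_smul x := zero_smul' x.val

instance : LieRing (LieAlg f G) where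
  bracket x y := LieAlg.mk (br x.val y.val)
  add_lie x x' y := br_mul_left x.val x'.val y.val
  lie_add x y y' := br_mul_right x.val y.val y'.val
  lie_self x := br_self x.val
  leibniz_lie x y z := br_jacobi x.val y.val z.val

instance : LieAlgebra B (LieAlg f G) where
  lie_smul b x y := br_smul_right b x.val y.val

/-- The model of `Lie(G)`. -/
def lieModel : LieS.Model G B f (LieAlg f G) where
  e :=
    { toFun := fun x => x.toAdd.val
      invFun := fun v => Multiplicative.ofAdd (LieAlg.mk v)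
      left_inv := fun _ => rfl
      right_inv := fun _ => rfl
      map_mul' := fun _ _ => rfl }
  e_smul _ _ := rfl
  e_lie x y := by
    show LieS.IsBracket G B f x.val y.val (br x.val y.val)
    let m : LieS.d2pt B f ⟶ ptC (C := P2 B) f (toP2 B) := Over.homMk (Spec.map (CommRingCat.ofHom (un2 B))) (by
      change Spec.map _ ≫ Spec.map _ ≫ f = Spec.map _ ≫ Spec.map _ ≫ f
      rw [← Category.assoc, ← Category.assoc, LieS.specMap_comp, LieS.specMap_comp]
      rfl)
    have key : ∀ {d : P2 B} (hd : d * d = 0) (g : LieS.d2pt B f ⟶ LieS.dpt B f) (ψ : DualNumber B →+* LieS.D2 B),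
        g.left = Spec.map (CommRingCat.ofHom ψ) → (∀ z, ψ z = un2 B (LieS.dualHom (toP2 B) d hd z)) →
        ∀ v : LieS.Lie G B f, m ≫ pb (C := P2 B) (toP2 B) (a := d) hd v = g ≫ v.1 := by
      intro d hd g ψ hg hψ v
      show m ≫ ev (C := P2 B) f (toP2 B) d hd ≫ v.1 = _
      rw [← Category.assoc]
      congr 1
      refine Over.OverMorphism.ext ?_
      rw [hg]
      show Spec.map _ ≫ Spec.map _ = Spec.map _
      rw [LieS.specMap_comp]
      congr 2
      exact RingHom.ext fun z => (hψ z).symm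
    have h := congrArg (fun p => m ≫ p) (Q_br x.val y.val)
    simp only [MonObj.comp_mul, GrpObj.comp_inv] at h
    rw [key (d := e₁ B * e₂ B) (e₁₂_sq (B := B)) (LieS.mulMap B f) (LieS.mulHom B) rfl
        (fun z => by rw [dualHom_e₁₂]; rfl),
      key (d := e₂ B) (e₂_sq (B := B)) (LieS.dptMap f (algebraMap B (DualNumber B)))
        (LieS.bcHom (algebraMap B (DualNumber B))) rfl
        (fun z => by simp [LieS.bcHom, toP2, e₂]),
      key (d := e₁ B) (e₁_sq (B := B)) (LieS.proj (DualNumber B) (LieS.dpt B f).hom)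
        (algebraMap (DualNumber B) (LieS.D2 B)) rfl
        (fun z => TrivSqZeroExt.ext (TrivSqZeroExt.ext (by simp [toP2, e₁, TrivSqZeroExt.algebraMap_eq_inl'])
          (by simp [toP2, e₁, TrivSqZeroExt.algebraMap_eq_inl']))
          (TrivSqZeroExt.ext (by simp [toP2, e₁, TrivSqZeroExt.algebraMap_eq_inl'])
          (by simp [toP2, e₁, TrivSqZeroExt.algebraMap_eq_inl'])))] at h
    exact h

end Groth.Agent.LieSLib
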